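import Groth.Agent.Lib.BddReg26.Quotient
import Groth.Agent.Lib.BddFam20.Embedded
import Groth.Agent.Lib.BddFam20.Quotients
import Groth.Agent.Lib.K0Sub.PushExact

/-!
# The members of a bounded family are uniformly regular
-/

set_option autoImplicit false
set_option linter.all false
set_option maxHeartbeats 800000
set_option backward.isDefEq.respectTransparency false

universe u

open CategoryTheory CategoryTheory.Limits AlgebraicGeometry Polynomial
open GrothLib.CMReg

noncomputable section

namespace GrothLib.BddReg26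

variable {k : Type u} [Field k] {X : Scheme.{u}} [X.Over (Spec (CommRingCat.of k))]
  {n : ℕ} (i : X ⟶ CohB1.ProjSpace n k) [IsClosedImmersion i]
  (hi : i ≫ CohB1.ProjSpace.toSpec n k = X ↘ Spec (CommRingCat.of k))

include hi

/-- The two Euler characteristics of a twist agree with that of the direct image. -/
theorem euler_push {F : X.Modules} (hF : Coh.IsCoh F) (t : ℤ) :
    FGA.eulerCharLE k X (Pic13.twistOn k i F t) n =
        Curv2.euler k (CohB1.ProjSpace n k) (Ft ((Scheme.Modules.pushforward i).obj F) t) ∧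
      Curv2.euler k X (Pic13.twistOn k i F t) =
        Curv2.euler k (CohB1.ProjSpace n k) (Ft ((Scheme.Modules.pushforward i).obj F) t) := by
  haveI := BddFam20.isProper_of_closed i hi
  haveI := Euler.isNoetherian_of_proper (X := X) k
  have hM := isCoh_Ft (FormalExist7.isCoh_pushforward i hF) t
  haveI := hM.1
  let e := fun q => (BddFam20.nonempty_HH_twistOn i hi hF t q).some
  have h1 : FGA.eulerCharLE k X (Pic13.twistOn k i F t) n =
      Curv2.euler k (CohB1.ProjSpace n k) (Ft ((Scheme.Modules.pushforward i).obj F) t) := by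
    rw [← BddFam20.eulerCharLE_eq_euler hM]
    exact Finset.sum_congr rfl fun q _ => by rw [(e q).finrank_eq]
  refine ⟨h1, h1 ▸ ?_⟩
  refine Euler.euler_eq_sum k _ (N := n + 1) fun q hq => ?_
  haveI := subsingleton_HH_of_lt (Ft ((Scheme.Modules.pushforward i).obj F) t) (show n < q by omega)
  exact (e q).toEquiv.subsingleton

/-- **The members of a bounded family are uniformly regular.** -/
theorem exists_uniform_regular [Infinite k] (P : X.Modules → Prop) (hP : ∀ F, P F → Coh.IsCoh F)
    (hb : Pic13.IsBounded k X P) : ∃ m : ℤ, ∀ F, P F → Pic13.IsMRegular k i F m := by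
  classical
  haveI := BddFam20.isProper_of_closed i hi
  haveI := Euler.isNoetherian_of_proper (X := X) k
  obtain ⟨m₁, N, hq⟩ := exists_uniform_quotient i P hb
  obtain ⟨s, hs⟩ := exists_finite_hilbert i P hP hb
  let B := (Scheme.Modules.pullback i).obj (Twist.twistProjSpace n k (-m₁))
  haveI := OX.preservesColimitsOfSize_tensorBi_flip_obj B
  let E : X.Modules := ∐ fun _ : Fin N => Pic13.twistOn k i (Coh.structureModule X) (-m₁)
  have hE : Coh.IsCoh E := QCoh.isCoh_of_iso
    (PreservesCoproduct.iso (Euler.tF B) fun _ : Fin N => Coh.structureModule X)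
    (CMReg.isCoh_tensorMod (Euler.isCoh_of_isFinLocFree (OX.isFinLocFree_freeMod X N))
      (Ample.isInvertible_pullback i (isInvertible_twist (n := n) (k := k) (-m₁))))
  have hE' := FormalExist7.isCoh_pushforward i hE
  obtain ⟨_, _, _⟩ := K0Sub.pushforward_exact i
  choose M hM using fun φ : ℚ[X] => BddFam20.exists_regular_quotient (n := n) (k := k) hE'
    (fun t : ℤ => ⌊φ.eval (t : ℚ)⌋)
  obtain ⟨m, hm⟩ := (s.finite_toSet.image M).bddAbove
  refine ⟨m, fun F hF q hq1 => ?_⟩
  obtain ⟨φ, hφ, hval⟩ := hs F hF
  obtain ⟨p, hp⟩ := hq F hF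
  haveI := hp
  have hPF := FormalExist7.isCoh_pushforward i (hP F hF)
  have hreg : Curv2.IsMRegular k n ((Scheme.Modules.pushforward i).obj F) (M φ) :=
    hM φ _ hPF ⟨(Scheme.Modules.pushforward i).map p, inferInstance⟩ fun t => by
      show _ = ⌊φ.eval (t : ℚ)⌋
      rw [← hval t, (euler_push i hi (hP F hF) t).2, Int.floor_intCast]
  obtain ⟨e⟩ := BddFam20.nonempty_HH_twistOn i hi (hP F hF) (m - q) q
  have hle := hm ⟨φ, hφ, rfl⟩
  haveI := propagate hPF (M φ) hreg q (m - q) hq1 (by omega)
  exact e.toEquiv.subsingleton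

end GrothLib.BddReg26
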