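import Groth.Agent.Lib.Simple20.Twist
import Groth.Agent.Lib.EulerConst10.Finite
import Groth.Agent.Lib.FGAInt26.AlgEquiv
import Groth.Agent.Lib.Regularity10.Transfer
import Groth.Prelude.Def_Pic13

/-!
# The members of a bounded family have finitely many Hilbert polynomials
-/

set_option autoImplicit false
set_option linter.all false
set_option maxHeartbeats 800000
set_option backward.isDefEq.respectTransparency false

universe u

open CategoryTheory CategoryTheory.Limits AlgebraicGeometry Polynomial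

noncomputable section

namespace GrothLib.BddReg26

variable {k : Type u} [Field k] {X : Scheme.{u}} [X.Over (Spec (CommRingCat.of k))]

theorem isPullback_sliceAt {T : Scheme.{u}} (q : T ⟶ Spec (CommRingCat.of k))
    (t : Spec (CommRingCat.of k) ⟶ T) (ht : t ≫ q = 𝟙 _) :
    IsPullback (Pic13.sliceAt k X q t ht) (X ↘ Spec (CommRingCat.of k))
      (pullback.snd (X ↘ Spec (CommRingCat.of k)) q) t := by
  refine IsPullback.of_right ?_ (by simp [Pic13.sliceAt]) (IsPullback.of_hasPullback _ q)
  rw [ht, show Pic13.sliceAt k X q t ht ≫ pullback.fst _ q = 𝟙 X from pullback.lift_fst _ _ _]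
  exact IsPullback.of_horiz_isIso ⟨by simp⟩

/-- Pulling the pullback of a module of `X` back to a slice gives it back. -/
def sliceFstIso {T : Scheme.{u}} (q : T ⟶ Spec (CommRingCat.of k))
    (t : Spec (CommRingCat.of k) ⟶ T) (ht : t ≫ q = 𝟙 _) (M : X.Modules) :
    (Scheme.Modules.pullback (Pic13.sliceAt k X q t ht)).obj
      ((Scheme.Modules.pullback (pullback.fst (X ↘ Spec (CommRingCat.of k)) q)).obj M) ≅ M :=
  (Scheme.Modules.pullbackComp _ _).app M ≪≫
    (Scheme.Modules.pullbackCongr (pullback.lift_fst _ _ _)).app M ≪≫ (Scheme.Modules.pullbackId X).app M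

variable {n : ℕ} (i : X ⟶ CohB1.ProjSpace n k) [IsProper (X ↘ Spec (CommRingCat.of k))]

/-- **Finitely many Hilbert polynomials occur in a bounded family.** -/
theorem exists_finite_hilbert (P : X.Modules → Prop) (hP : ∀ F, P F → Coh.IsCoh F)
    (hb : Pic13.IsBounded k X P) :
    ∃ s : Finset ℚ[X], ∀ F, P F → ∃ φ ∈ s, ∀ t : ℤ,
      (Curv2.euler k X (Pic13.twistOn k i F t) : ℚ) = φ.eval (t : ℚ) := by
  haveI := Euler.isNoetherian_of_proper (X := X) k
  obtain ⟨T, q, hft, hqc, G, hG, hall⟩ := hb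
  haveI := hft
  haveI := hqc
  let p := X ↘ Spec (CommRingCat.of k)
  let π := pullback.snd p q
  haveI : IsProper π := MorphismProperty.pullback_snd (P := @IsProper) p q inferInstance
  haveI : IsLocallyNoetherian T := LocallyOfFiniteType.isLocallyNoetherian q
  haveI : CompactSpace T := QuasiCompact.compactSpace_of_compactSpace q
  haveI : LocallyOfFinitePresentation π := inferInstance
  haveI : IsLocallyNoetherian (Pic13.prodK k X q) := LocallyOfFiniteType.isLocallyNoetherian π
  haveI : CompactSpace (Pic13.prodK k X q) := QuasiCompact.compactSpace_of_compactSpace π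
  haveI : IsNoetherian (Pic13.prodK k X q) := {}
  have hGfp : CohB1.IsFP G := FunMor20.isFP_of_isCoh hG
  haveI : G.IsQuasicoherent := hG.1
  let L₁ : Fin 1 → (Pic13.prodK k X q).Modules := fun _ =>
    (Scheme.Modules.pullback (pullback.fst p q)).obj (Simple20.O1 i)
  have hL₁ : ∀ j, PicF.IsInvertible (L₁ j) := fun _ =>
    Ample.isInvertible_pullback _ (Simple20.isInvertible_O1 i)
  have hR := EulerConst10.finite_range_fibEuler π G hGfp L₁ hL₁
  let agree : ((Fin 1 → ℕ) → ℤ) → Set ℚ[X] := fun f =>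
    {φ | ∀ a : ℕ, (f (fun _ => a) : ℚ) = φ.eval (a : ℚ)}
  have hsub : ∀ f, (agree f).Subsingleton := fun f φ hφ ψ hψ => by
    refine Polynomial.eq_of_infinite_eval_eq _ _ ((Set.infinite_range_of_injective
      (f := fun a : ℕ => (a : ℚ)) Nat.cast_injective).mono ?_)
    rintro _ ⟨a, rfl⟩
    exact (hφ a).symm.trans (hψ a)
  refine ⟨(hR.biUnion fun f _ => (hsub f).finite).toFinset, fun F hF => ?_⟩
  obtain ⟨φ, -, hφ⟩ := Simple20.exists_poly_int i (hP F hF)
  refine ⟨φ, ?_, hφ⟩
  obtain ⟨t, ht, ⟨e⟩⟩ := hall F hF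
  rw [Set.Finite.mem_toFinset]
  refine Set.mem_biUnion ⟨t (IsLocalRing.closedPoint k), rfl⟩ fun a => ?_
  have ha := hφ (a : ℤ)
  push_cast at ha
  rw [← ha]
  congr 1
  dsimp only
  rw [← EulerConst10.fibEuler_tensorPows_baseChange (isPullback_sliceAt q t ht) hGfp L₁ hL₁ _
    (IsLocalRing.closedPoint k)]
  let σ := Pic13.sliceAt k X q t ht
  haveI := (hP F hF).1
  haveI : (CohB1.tensorMod ((Scheme.Modules.pullback σ).obj G)
      (CohB1.tensorPow ((Scheme.Modules.pullback σ).obj (L₁ 0)) a)).IsQuasicoherent :=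
    (Simple20.isCoh_twistOn i (hP F hF) a).1 |> fun h => by
      obtain ⟨w⟩ := Simple20.nonempty_twistOn_twist i F a
      obtain ⟨g⟩ := Regularity.nonempty_tensorPow_congr (sliceFstIso q t ht (Simple20.O1 i)) a
      exact (SheafOfModules.isQuasicoherent X.ringCatSheaf).prop_of_iso
        (w.symm ≪≫ (Ample.LineData.tensorModMapIso e g).symm) h
  refine Eq.trans ?_ (FGAInt26.fibEuler_point p (CohB1.tensorMod ((Scheme.Modules.pullback σ).obj G)
      (CohB1.tensorPow ((Scheme.Modules.pullback σ).obj (L₁ 0)) a)) (IsLocalRing.closedPoint k)).symm |> Eq.symm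
  obtain ⟨w⟩ := Simple20.nonempty_twistOn_twist i F a
  obtain ⟨g⟩ := Regularity.nonempty_tensorPow_congr (sliceFstIso q t ht (Simple20.O1 i)) a
  exact (Euler.euler_of_iso k (Ample.LineData.tensorModMapIso e g ≪≫ w)).symm

end GrothLib.BddReg26
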