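import Groth.Agent.Lib.BddReg26.Hilbert
import Groth.Agent.Lib.CurveMult.GGCurve
import Groth.Agent.Lib.ModelK.AmpleElt
import Groth.Agent.Lib.OX.LocFreeTensor
import Groth.Agent.Lib.FormalExist7.PushTwist
import Groth.Agent.Lib.GeomSS.Main

/-!
# The members of a bounded family are quotients of one sum of negative twists
-/

set_option autoImplicit false
set_option linter.all false
set_option maxHeartbeats 800000
set_option backward.isDefEq.respectTransparency false

universe u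

open CategoryTheory CategoryTheory.Limits AlgebraicGeometry

noncomputable section

namespace GrothLib.BddReg26

/-- A coherent module tensored with high powers of an ample module is a quotient of a finite free one. -/
theorem exists_epi_free_tensorPow {X : Scheme.{u}} [IsLocallyNoetherian X] {L M : X.Modules}
    (hL : CohB1.IsAmple L) (hM : Coh.IsCoh M) :
    ∃ n₀ : ℕ, ∀ n, n₀ ≤ n → ∃ (N : ℕ) (p : FlatMod.freeMod X N ⟶ CohB1.tensorMod M (CohB1.tensorPow L n)), Epi p := by
  haveI : CompactSpace X := hL.2.1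
  obtain ⟨c, ⟨e⟩⟩ := Ample.exists_cocycle hL.1
  haveI := hM.1
  obtain ⟨n₀, h⟩ := c.eventually_isGloballyGenerated M ((c.isAmple_iff e).1 hL).2
    (fun _ => ⟨⊤, trivial, fun W hW _ => FormalExist7.moduleFinite_sections_of_isCoh hM hW⟩)
  refine ⟨n₀, fun n hn => ?_⟩
  obtain ⟨d⟩ := c.nonempty_tensorPow_iso e n
  obtain ⟨t⟩ := c.nonempty_tensor_modTwist M n
  have hgg := Ample.isGloballyGenerated_of_iso
    (((DCoh.tensorBi (X := X)).obj M).mapIso d ≪≫ t).symm (h n hn)
  exact CurveMult.exists_epi_freeMod (CMReg.isCoh_tensorMod hM (Ample.isInvertible_tensorPow hL.1 n)) hgg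

/-- Padding a finite free module. -/
theorem exists_epi_free_le {X : Scheme.{u}} {M : X.Modules} {N N' : ℕ} (h : N ≤ N')
    (p : FlatMod.freeMod X N ⟶ M) [Epi p] : ∃ p' : FlatMod.freeMod X N' ⟶ M, Epi p' := by
  let r : FlatMod.freeMod X N' ⟶ FlatMod.freeMod X N :=
    Sigma.desc fun j => if hj : j.val < N then Sigma.ι (fun _ : Fin N => Coh.structureModule X) ⟨j, hj⟩ else 0
  let s : FlatMod.freeMod X N ⟶ FlatMod.freeMod X N' :=
    Sigma.desc fun l => Sigma.ι (fun _ : Fin N' => Coh.structureModule X) (Fin.castLE h l)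
  have hsr : s ≫ r = 𝟙 _ := Sigma.hom_ext _ _ fun l => by
    simp only [s, r, Sigma.ι_desc_assoc, Sigma.ι_desc, Category.comp_id]
    simp
  haveI : IsSplitEpi r := IsSplitEpi.mk' ⟨s, hsr⟩
  exact ⟨r ≫ p, epi_comp r p⟩

/-- Pulling back an epimorphism from a finite free module. -/
theorem exists_epi_free_pullback {X Y : Scheme.{u}} (f : X ⟶ Y) {M : Y.Modules} {N : ℕ}
    (p : FlatMod.freeMod Y N ⟶ M) [Epi p] :
    ∃ p' : FlatMod.freeMod X N ⟶ (Scheme.Modules.pullback f).obj M, Epi p' := by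
  haveI : (Scheme.Modules.pullback f).IsLeftAdjoint :=
    (Scheme.Modules.pullbackPushforwardAdjunction f).isLeftAdjoint
  exact ⟨(OX.pullFreeModIso f N).inv ≫ (Scheme.Modules.pullback f).map p, inferInstance⟩

variable {k : Type u} [Field k] {X : Scheme.{u}} [X.Over (Spec (CommRingCat.of k))]
  {n : ℕ} (i : X ⟶ CohB1.ProjSpace n k) [IsProper (X ↘ Spec (CommRingCat.of k))] [IsClosedImmersion i]

theorem nonempty_fibreMod_congr {T : Scheme.{u}} (q : T ⟶ Spec (CommRingCat.of k))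
    {t t' : Spec (CommRingCat.of k) ⟶ T} (h : t = t') (ht : t ≫ q = 𝟙 _) (ht' : t' ≫ q = 𝟙 _)
    (G : (Pic13.prodK k X q).Modules) {F : X.Modules} (e : Nonempty (Pic13.fibreMod k X q t ht G ≅ F)) :
    Nonempty (Pic13.fibreMod k X q t' ht' G ≅ F) := by
  subst h
  exact e

/-- The high twists of the members of a bounded family are quotients of one free module. -/
theorem exists_uniform_free (P : X.Modules → Prop) (hb : Pic13.IsBounded k X P) :
    ∃ (m N : ℕ), ∀ F, P F →
      ∃ p : FlatMod.freeMod X N ⟶ Pic13.twistOn k i F m, Epi p := by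
  classical
  haveI := Euler.isNoetherian_of_proper (X := X) k
  obtain ⟨T, q, hft, hqc, G, hG, hall⟩ := hb
  haveI := hft
  haveI := hqc
  haveI : CompactSpace T := QuasiCompact.compactSpace_of_compactSpace q
  let p := X ↘ Spec (CommRingCat.of k)
  let 𝒰 := T.affineCover.finiteSubcover
  haveI : ∀ a, IsAffine (𝒰.X a) := fun a => by dsimp [𝒰]; infer_instance
  have key : ∀ a : 𝒰.I₀, ∃ n₀ : ℕ, ∀ m, n₀ ≤ m → ∃ N : ℕ, ∀ F : X.Modules,
      (∃ (t : Spec (CommRingCat.of k) ⟶ 𝒰.X a) (ht : t ≫ 𝒰.f a ≫ q = 𝟙 _),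
        Nonempty (Pic13.fibreMod k X q (t ≫ 𝒰.f a) (by rw [Category.assoc, ht]) G ≅ F)) →
      ∃ φ : FlatMod.freeMod X N ⟶ Pic13.twistOn k i F m, Epi φ := by
    intro a
    let q' := 𝒰.f a ≫ q
    haveI : LocallyOfFiniteType q' := inferInstanceAs (LocallyOfFiniteType (𝒰.f a ≫ q))
    let π := pullback.snd p q'
    haveI : IsProper π := MorphismProperty.pullback_snd (P := @IsProper) p q' inferInstance
    haveI : IsLocallyNoetherian (𝒰.X a) := LocallyOfFiniteType.isLocallyNoetherian q'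
    haveI : IsLocallyNoetherian (Pic13.prodK k X q') := LocallyOfFiniteType.isLocallyNoetherian π
    haveI : IsAffineHom (pullback.fst p q') := MorphismProperty.pullback_fst (P := @IsAffineHom) p q' inferInstance
    let h : Pic13.prodK k X q' ⟶ Pic13.prodK k X q :=
      pullback.map p q' p q (𝟙 X) (𝒰.f a) (𝟙 _) (by simp) (by simp [q'])
    let L := (Scheme.Modules.pullback (pullback.fst p q')).obj (Simple20.O1 i)
    have hL : CohB1.IsAmple L := Ample.isAmple_pullback_of_isAffineHom _ (Simple20.isAmple_O1 i)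
    have hG' : Coh.IsCoh ((Scheme.Modules.pullback h).obj G) := GeomSS.isCoh_pullback' h hG
    obtain ⟨n₀, hn₀⟩ := exists_epi_free_tensorPow hL hG'
    refine ⟨n₀, fun m hm => ?_⟩
    obtain ⟨N, φ, hφ⟩ := hn₀ m hm
    haveI := hφ
    refine ⟨N, fun F ⟨t, ht, ⟨e⟩⟩ => ?_⟩
    let σ := Pic13.sliceAt k X q' t ht
    have hσ : σ ≫ h = Pic13.sliceAt k X q (t ≫ 𝒰.f a) (by rw [Category.assoc, ht]) := by
      apply pullback.hom_ext
      · simp [σ, h, Pic13.sliceAt, p]
      · simp [σ, h, Pic13.sliceAt, p]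
    obtain ⟨φ', hφ'⟩ := exists_epi_free_pullback σ φ
    let eG : (Scheme.Modules.pullback σ).obj ((Scheme.Modules.pullback h).obj G) ≅ F :=
      (Scheme.Modules.pullbackComp σ h).app G ≪≫ (Scheme.Modules.pullbackCongr hσ).app G ≪≫ e
    obtain ⟨g1⟩ := Ample.nonempty_pullback_tensorPow σ hL.1 m
    obtain ⟨g2⟩ := Regularity.nonempty_tensorPow_congr (sliceFstIso q' t ht (Simple20.O1 i)) m
    obtain ⟨w⟩ := Simple20.nonempty_twistOn_twist i F m
    let ε : (Scheme.Modules.pullback σ).obj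
        (CohB1.tensorMod ((Scheme.Modules.pullback h).obj G) (CohB1.tensorPow L m)) ≅ Pic13.twistOn k i F m :=
      OX.pullTensorIso σ _ _ ≪≫ Ample.LineData.tensorModMapIso eG (g1 ≪≫ g2) ≪≫ w
    haveI := hφ'
    exact ⟨φ' ≫ ε.hom, inferInstance⟩
  choose n₀ hn₀ using key
  obtain ⟨m, hm⟩ := Finite.exists_le n₀
  choose N hN using fun a => hn₀ a m (hm a)
  obtain ⟨B, hB⟩ := Finite.exists_le N
  refine ⟨m, B, fun F hF => ?_⟩
  obtain ⟨t, ht, he⟩ := hall F hF
  let pt : T := t (IsLocalRing.closedPoint k)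
  have hr : Set.range t ⊆ Set.range (𝒰.f (𝒰.idx pt)) := by
    rintro _ ⟨x, rfl⟩
    rw [Subsingleton.elim x (IsLocalRing.closedPoint k)]
    exact 𝒰.covers pt
  let t' := IsOpenImmersion.lift (𝒰.f (𝒰.idx pt)) t hr
  have ht' : t' ≫ 𝒰.f (𝒰.idx pt) = t := IsOpenImmersion.lift_fac _ _ hr
  obtain ⟨φ, hφ⟩ := hN (𝒰.idx pt) F ⟨t', by rw [← Category.assoc, ht', ht],
    nonempty_fibreMod_congr q ht'.symm ht _ G he⟩
  exact exists_epi_free_le (hB _) φ

/-- The members of a bounded family are quotients of one sum of negative twists. -/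
theorem exists_uniform_quotient (P : X.Modules → Prop) (hb : Pic13.IsBounded k X P) :
    ∃ (m : ℤ) (N : ℕ), ∀ F, P F →
      ∃ p : (∐ fun _ : Fin N => Pic13.twistOn k i (Coh.structureModule X) (-m)) ⟶ F, Epi p := by
  obtain ⟨m, N, hall⟩ := exists_uniform_free i P hb
  refine ⟨m, N, fun F hF => ?_⟩
  obtain ⟨φ, hφ⟩ := hall F hF
  let B := (Scheme.Modules.pullback i).obj (Twist.twistProjSpace n k (-(m : ℤ)))
  haveI := OX.preservesColimitsOfSize_tensorBi_flip_obj B
  haveI := hφ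
  haveI : Epi ((Euler.tF B).map φ) := Functor.map_epi _ _
  obtain ⟨g⟩ := Simple20.nonempty_twistOn_add i F (show (m : ℤ) + -(m : ℤ) = ((0 : ℕ) : ℤ) by simp)
  obtain ⟨w⟩ := Simple20.nonempty_twistOn_twist i F 0
  let ε : (Euler.tF B).obj (Pic13.twistOn k i F m) ≅ F := g ≪≫ w.symm ≪≫ Euler.tFUnitIso F
  exact ⟨(PreservesCoproduct.iso (Euler.tF B) fun _ : Fin N => Coh.structureModule X).inv ≫
    (Euler.tF B).map φ ≫ ε.hom, inferInstance⟩

end GrothLib.BddReg26
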